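import Groth.Agent.Lib.CodimAff19.Pole
import Groth.Agent.Lib.PoleOne18.Affine

/-!
# Finitely many points of codimension at most one lie in an affine open
-/

set_option autoImplicit false
set_option linter.style.haveILetI false
universe u

open CategoryTheory AlgebraicGeometry TopologicalSpace Opposite

namespace Groth.Agent.CodimAff19

open Groth.Agent.M1 (ores)

variable {X : Scheme.{u}} [IsNoetherian X] [X.IsSeparated]

/-- A section on an affine open which is regular on the part of `U` inside `A` extends, after multiplication by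
a power of `c`, if `c` is supported inside `A`. -/
theorem exists_extend {U A : X.Opens} (hU : IsAffineOpen U) (c : Γ(X, U)) (hc : X.basicOpen c ≤ A)
    (a : Γ(X, A)) :
    ∃ (k : ℕ) (d : Γ(X, U)), 0 < k ∧
      ores (inf_le_left : U ⊓ A ≤ U) d = ores (inf_le_left : U ⊓ A ≤ U) c ^ k * ores (inf_le_right : U ⊓ A ≤ A) a ∧
      X.basicOpen d ≤ X.basicOpen a := by
  classical
  have hB : IsAffineOpen (X.basicOpen c) := hU.basicOpen c
  letI : Algebra Γ(X, U) Γ(X, X.basicOpen c) := (ores (X.basicOpen_le c)).hom.toAlgebra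
  haveI : IsLocalization.Away c Γ(X, X.basicOpen c) := hU.isLocalization_basicOpen c
  obtain ⟨n, d₀, hd₀⟩ := IsLocalization.Away.surj c (ores hc a)
  have hd₀' : ores hc a * ores (X.basicOpen_le c) c ^ n = ores (X.basicOpen_le c) d₀ := hd₀
  have hcomp : IsCompact ((U ⊓ A : X.Opens) : Set X) := NoetherianSpace.isCompact _
  let c' := ores (inf_le_left : U ⊓ A ≤ U) c
  have hzero : ores (X.basicOpen_le c') (ores (inf_le_left : U ⊓ A ≤ U) d₀ -
      c' ^ n * ores (inf_le_right : U ⊓ A ≤ A) a) = 0 := by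
    have hle : X.basicOpen c' ≤ X.basicOpen c := by
      show X.basicOpen (X.presheaf.map _ c) ≤ _
      rw [Scheme.basicOpen_res]
      exact inf_le_right
    refine TopCat.Presheaf.section_ext X.sheaf _ _ _ fun p hp => ?_
    change X.presheaf.germ _ p hp _ = X.presheaf.germ _ p hp _
    have hpUA : p ∈ U ⊓ A := X.basicOpen_le _ hp
    have e := congrArg (X.presheaf.germ (X.basicOpen c) p (hle hp)) hd₀'
    simp only [c', ores, map_mul, map_pow, map_sub, map_zero, TopCat.Presheaf.germ_res_apply] at e ⊢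
    rw [← e, mul_comm, sub_self]
  obtain ⟨m, hm⟩ := AlgebraicGeometry.exists_pow_mul_eq_zero_of_res_basicOpen_eq_zero_of_isCompact X hcomp
    (ores (inf_le_left : U ⊓ A ≤ U) d₀ - c' ^ n * ores (inf_le_right : U ⊓ A ≤ A) a) c' hzero
  have e : ores (inf_le_left : U ⊓ A ≤ U) (c ^ (m + 1) * d₀) =
      ores (inf_le_left : U ⊓ A ≤ U) c ^ (m + 1 + n) * ores (inf_le_right : U ⊓ A ≤ A) a := by
    rw [map_mul, map_pow]
    have h2 : c' ^ m * (ores (inf_le_left : U ⊓ A ≤ U) d₀ - c' ^ n * ores (inf_le_right : U ⊓ A ≤ A) a) = 0 := hm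
    linear_combination c' * h2
  refine ⟨m + 1 + n, c ^ (m + 1) * d₀, by omega, e, fun p hp => ?_⟩
  have hpU : p ∈ U := X.basicOpen_le _ hp
  have hpc : p ∈ X.basicOpen c := by
    rw [Scheme.basicOpen_mul] at hp
    rw [← Scheme.basicOpen_pow X c (Nat.succ_pos m)]
    exact hp.1
  have hp' : p ∈ X.basicOpen (ores (inf_le_left : U ⊓ A ≤ U) (c ^ (m + 1) * d₀)) := by
    show p ∈ X.basicOpen (X.presheaf.map _ _)
    rw [Scheme.basicOpen_res]
    exact ⟨⟨hpU, hc hpc⟩, hp⟩
  rw [e, Scheme.basicOpen_mul] at hp'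
  have h2 : p ∈ X.basicOpen (X.presheaf.map (homOfLE (inf_le_right : U ⊓ A ≤ A)).op a) := hp'.2
  rw [Scheme.basicOpen_res] at h2
  exact h2.2

/-- Adding one point of codimension at most one to an affine open. -/
theorem exists_affine_insert {U : X.Opens} (hU : IsAffineOpen U) (T : Set X) (hT : T.Finite) (hTU : T ⊆ U)
    {z : X} (hz : z ∉ U) (hd : ringKrullDim (X.presheaf.stalk z) ≤ 1)
    (hgen : ∀ η, η ⤳ z → η ≠ z → η ∈ U) :
    ∃ U' : X.Opens, IsAffineOpen U' ∧ z ∈ U' ∧ T ⊆ U' := by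
  classical
  haveI : QuasiCompact U.ι := by
    haveI : CompactSpace U.toScheme := isCompact_iff_compactSpace.1 hU.isCompact
    exact quasiCompact_of_compactSpace _
  let T' : Set X := {t ∈ T | ¬ t ⤳ z}
  have hcl : IsClosed (⋃ t ∈ T', closure ({t} : Set X)) :=
    (hT.subset fun t ht => ht.1).isClosed_biUnion fun _ _ => isClosed_closure
  have hzC : z ∉ ⋃ t ∈ T', closure ({t} : Set X) := fun h => by
    obtain ⟨t, ht, hmem⟩ := Set.mem_iUnion₂.1 h
    exact ht.2 (specializes_iff_mem_closure.2 hmem)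
  obtain ⟨A₀, hzA₀, hA₀⟩ := exists_open_compl_le U hz hgen
  obtain ⟨A, hA, hzA, hAle⟩ := exists_isAffineOpen_mem_and_subset (x := z)
    (U := A₀ ⊓ ⟨_, hcl.isOpen_compl⟩) ⟨hzA₀, hzC⟩
  -- a first pole
  obtain ⟨e₀, he₀A, he₀F⟩ := PoleOne18.exists_basicOpen_finite hU
    (show ({η | η ⤳ z ∧ η ≠ z} : Set X).Finite from by
      haveI : Finite ↥(Spec (X.presheaf.stalk z)) := Pic18.finite_spec hd
      exact (Set.finite_range (X.fromSpecStalk z)).subset fun η h =>
        (Scheme.range_fromSpecStalk (x := z)).symm.subset h.1)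
    A (fun η h => hgen η h.1 h.2) (fun η h => h.1.mem_open A.2 hzA)
  obtain ⟨J, hJ, w, ha, hb, hc⟩ := branches_at hU hgen hd hz
  obtain ⟨c₀, hc₀⟩ := PoleOne18.exists_mul_forall_gt_one w ha e₀
    fun j => hb j e₀ fun η hs hne => he₀F ⟨hs, hne⟩
  obtain ⟨n, V, b, hn, hzV, -, hzb, hbc⟩ := hc (e₀ * c₀) hc₀
  set c := (e₀ * c₀) ^ n with hcdef
  have hbc' : ores (inf_le_left : V ⊓ U ≤ V) b * ores (inf_le_right : V ⊓ U ≤ U) c = 1 := by
    rw [hcdef, map_pow]; exact hbc
  have hcA : X.basicOpen c ≤ A := by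
    rw [hcdef, Scheme.basicOpen_pow _ _ hn, Scheme.basicOpen_mul]
    exact inf_le_left.trans he₀A
  -- a basic open of `A` inside `V`
  obtain ⟨a, haV, hza⟩ := hA.exists_basicOpen_le (V := V) ⟨z, hzV⟩ hzA
  obtain ⟨k, d, hk, hdeq, hda⟩ := exists_extend hU c hcA a
  let A₁ : X.Opens := X.basicOpen a
  have hA₁A : A₁ ≤ A := X.basicOpen_le a
  obtain ⟨ainv, hainv⟩ := (show IsUnit (ores hA₁A a) from X.toRingedSpace.isUnit_res_basicOpen a).exists_left_inv
  let β : Γ(X, A₁) := ores haV b ^ k * ainv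
  have hzβ : z ∉ X.basicOpen β := fun h => hzb (by
    have h1 := h
    rw [show β = ores haV b ^ k * ainv from rfl, Scheme.basicOpen_mul, Scheme.basicOpen_pow _ _ hk] at h1
    have h2 : z ∈ X.basicOpen (X.presheaf.map (homOfLE haV).op b) := h1.1
    rw [Scheme.basicOpen_res] at h2
    exact h2.2)
  have hrel : ∀ p (hp1 : p ∈ A₁) (hpU : p ∈ U),
      X.presheaf.germ A₁ p hp1 β * X.presheaf.germ U p hpU d = 1 := fun p hp1 hpU => by
    have e1 := congrArg (X.presheaf.germ (U ⊓ A) p ⟨hpU, hA₁A hp1⟩) hdeq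
    have e2 := congrArg (X.presheaf.germ (V ⊓ U) p ⟨haV hp1, hpU⟩) hbc'
    have e3 := congrArg (X.presheaf.germ A₁ p hp1) hainv
    simp only [ores, map_mul, map_one, map_pow, TopCat.Presheaf.germ_res_apply] at e1 e2 e3
    simp only [β, map_mul, map_pow, ores, TopCat.Presheaf.germ_res_apply]
    rw [e1]
    calc _ = (X.presheaf.germ V p (haV hp1) b * X.presheaf.germ U p hpU c) ^ k *
          (X.presheaf.germ A₁ p hp1 ainv * X.presheaf.germ A p (hA₁A hp1) a) := by ring
      _ = 1 := by rw [e2, e3, one_pow, one_mul]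
  -- the two charts
  let U₁ : X.Opens := X.basicOpen (1 + d)
  have hU₁U : U₁ ≤ U := X.basicOpen_le _
  let V₂ : X.Opens := X.basicOpen (1 + β)
  have hV₂A : V₂ ≤ A₁ := X.basicOpen_le _
  have hzV₂ : z ∈ V₂ := by
    rw [X.mem_basicOpen _ z hza, map_add, map_one]
    by_contra h
    have h2 := sub_mem ((IsLocalRing.mem_maximalIdeal _).2 h)
      ((IsLocalRing.mem_maximalIdeal _).2 fun hu => hzβ ((X.mem_basicOpen β z hza).2 hu))
    rw [add_sub_cancel_right] at h2
    exact h2 isUnit_one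
  have hβ0 : ∀ p (hp : p ∈ A₁), p ∉ U → p ∉ X.basicOpen β := fun p hp hpU h =>
    hzβ ((hA₀ p (hAle (hA₁A hp)).1 hpU).mem_open (X.basicOpen β).2 h)
  have hV₂U₁ : ∀ p ∈ V₂, p ∈ U → p ∈ U₁ := fun p hp hpU => by
    rw [X.mem_basicOpen _ p hpU, map_add, map_one]
    have h1 := (X.mem_basicOpen _ p (hV₂A hp)).1 hp
    rw [map_add, map_one] at h1
    have h2 := hrel p (hV₂A hp) hpU
    rw [mul_comm] at h2
    rw [show 1 + X.presheaf.germ U p hpU d =
      X.presheaf.germ U p hpU d * (1 + X.presheaf.germ A₁ p (hV₂A hp) β) by rw [mul_add, h2, mul_one, add_comm]]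
    exact (IsUnit.of_mul_eq_one _ h2).mul h1
  obtain ⟨e₁, he₁⟩ := (show IsUnit (ores hU₁U (1 + d)) from
    X.toRingedSpace.isUnit_res_basicOpen (1 + d)).exists_left_inv
  obtain ⟨e₂, he₂⟩ := (show IsUnit (ores hV₂A (1 + β)) from
    X.toRingedSpace.isUnit_res_basicOpen (1 + β)).exists_left_inv
  have g₁ : ∀ p (hp : p ∈ U₁),
      X.presheaf.germ U₁ p hp e₁ * (1 + X.presheaf.germ U p (hU₁U hp) d) = 1 := fun p hp => by
    have := congrArg (X.presheaf.germ U₁ p hp) he₁
    simpa only [ores, map_mul, map_add, map_one, TopCat.Presheaf.germ_res_apply] using this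
  have g₂ : ∀ p (hp : p ∈ V₂),
      X.presheaf.germ V₂ p hp e₂ * (1 + X.presheaf.germ A₁ p (hV₂A hp) β) = 1 := fun p hp => by
    have := congrArg (X.presheaf.germ V₂ p hp) he₂
    simpa only [ores, map_mul, map_add, map_one, TopCat.Presheaf.germ_res_apply] using this
  let O : Bool → X.Opens := fun i => cond i U₁ V₂
  let sec : ∀ i, Γ(X, O i) := fun i => match i with
    | true => e₁
    | false => ores hV₂A β * e₂
  have hagree : ∀ p (hp : p ∈ U₁) (hp' : p ∈ V₂),
      X.presheaf.germ U₁ p hp e₁ = X.presheaf.germ V₂ p hp' (ores hV₂A β * e₂) := fun p hp hp' => by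
    rw [map_mul, X.presheaf.germ_res_apply]
    refine (((X.mem_basicOpen _ p (hU₁U hp)).1 hp).mul_left_inj).1 ?_
    rw [map_add, map_one, g₁ p hp]
    linear_combination -(X.presheaf.germ V₂ p hp' e₂) * hrel p (hV₂A hp') (hU₁U hp) - g₂ p hp'
  obtain ⟨e, he, -⟩ := X.sheaf.existsUnique_gluing' O (⨆ i, O i) (fun i => homOfLE (le_iSup O i)) le_rfl sec
    fun i j => by
      refine TopCat.Presheaf.section_ext X.sheaf _ _ _ fun p hp => ?_
      change X.presheaf.germ _ p hp (X.presheaf.map _ (sec i)) = X.presheaf.germ _ p hp (X.presheaf.map _ (sec j))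
      erw [X.presheaf.germ_res_apply, X.presheaf.germ_res_apply]
      cases i <;> cases j
      · rfl
      · exact (hagree p hp.2 hp.1).symm
      · exact hagree p hp.1 hp.2
      · rfl
  let e' : Γ(X, ⨆ i, O i) := e
  have ge₁ : ∀ p (hp : p ∈ U₁), X.presheaf.germ (⨆ i, O i) p (le_iSup O true hp) e' =
      X.presheaf.germ U₁ p hp e₁ := fun p hp => by
    rw [← X.presheaf.germ_res_apply (homOfLE (le_iSup O true)) p hp]
    exact congrArg (X.presheaf.germ U₁ p hp) (he true)
  have ge₂ : ∀ p (hp : p ∈ V₂), X.presheaf.germ (⨆ i, O i) p (le_iSup O false hp) e' =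
      X.presheaf.germ A₁ p (hV₂A hp) β * X.presheaf.germ V₂ p hp e₂ := fun p hp => by
    rw [← X.presheaf.germ_res_apply (homOfLE (le_iSup O false)) p hp,
      ← X.presheaf.germ_res_apply (homOfLE hV₂A) p hp β, ← map_mul]
    exact congrArg (X.presheaf.germ V₂ p hp) (he false)
  have hDe : X.basicOpen e' = U₁ := by
    ext p
    constructor
    · intro hp
      obtain ⟨i, hi⟩ := Opens.mem_iSup.1 (X.basicOpen_le e' hp)
      cases i
      · refine hV₂U₁ p hi ?_
        by_contra hpU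
        have h := (X.mem_basicOpen e' p (le_iSup O false hi)).1 hp
        rw [ge₂ p hi] at h
        exact hβ0 p (hV₂A hi) hpU ((X.mem_basicOpen β p (hV₂A hi)).2 (isUnit_of_mul_isUnit_left h))
      · exact hi
    · intro hp
      refine (X.mem_basicOpen e' p (le_iSup O true hp)).2 ?_
      rw [ge₁ p hp]
      exact IsUnit.of_mul_eq_one _ (g₁ p hp)
  have hD1e : X.basicOpen (1 - e') = V₂ := by
    ext p
    constructor
    · intro hp
      obtain ⟨i, hi⟩ := Opens.mem_iSup.1 (X.basicOpen_le _ hp)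
      cases i
      · exact hi
      have h := (X.mem_basicOpen _ p (le_iSup O true hi)).1 hp
      rw [map_sub, map_one, ge₁ p hi,
        show 1 - X.presheaf.germ U₁ p hi e₁ = X.presheaf.germ U₁ p hi e₁ * X.presheaf.germ U p (hU₁U hi) d by
          linear_combination -(g₁ p hi)] at h
      have hpd := (X.mem_basicOpen d p (hU₁U hi)).2 (isUnit_of_mul_isUnit_right h)
      have hp1 : p ∈ A₁ := hda hpd
      refine (X.mem_basicOpen _ p hp1).2 ?_
      have h2 := hrel p hp1 (hU₁U hi)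
      rw [map_add, map_one, show 1 + X.presheaf.germ A₁ p hp1 β =
        X.presheaf.germ A₁ p hp1 β * (1 + X.presheaf.germ U p (hU₁U hi) d) by rw [mul_add, h2, mul_one, add_comm]]
      refine (IsUnit.of_mul_eq_one _ h2).mul ?_
      have h3 := (X.mem_basicOpen _ p (hU₁U hi)).1 hi
      rwa [map_add, map_one] at h3
    · intro hp
      refine (X.mem_basicOpen _ p (le_iSup O false hp)).2 ?_
      rw [map_sub, map_one, ge₂ p hp,
        show 1 - X.presheaf.germ A₁ p (hV₂A hp) β * X.presheaf.germ V₂ p hp e₂ = X.presheaf.germ V₂ p hp e₂ by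
          linear_combination -(g₂ p hp)]
      exact IsUnit.of_mul_eq_one _ (g₂ p hp)
  refine ⟨⨆ i, O i, isAffineOpen_of_isAffineOpen_basicOpen _ {e', 1 - e'} ?_ ?_,
    le_iSup O false hzV₂, fun t ht => ?_⟩
  · have h := Ideal.add_mem (Ideal.span ({e', 1 - e'} : Set Γ(X, ⨆ i, O i)))
      (Ideal.subset_span (Set.mem_insert e' {1 - e'}))
      (Ideal.subset_span (Set.mem_insert_of_mem e' (Set.mem_singleton (1 - e'))))
    rw [add_sub_cancel] at h
    exact (Ideal.eq_top_iff_one _).2 h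
  · rintro _ (rfl | rfl)
    · rw [hDe]; exact hU.basicOpen _
    · rw [hD1e]; exact (hA.basicOpen a).basicOpen _
  · refine le_iSup O true ?_
    show t ∈ X.basicOpen (1 + d)
    by_cases htz : t ⤳ z
    · exact hV₂U₁ t (htz.mem_open V₂.2 hzV₂) (hTU ht)
    · rw [X.mem_basicOpen _ t (hTU ht), map_add, map_one]
      by_contra hnu
      have hnd : ¬ IsUnit (X.presheaf.germ U t (hTU ht) d) := fun hu => by
        have hmem := (hAle (hA₁A (hda ((X.mem_basicOpen d t (hTU ht)).2 hu)))).2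
        exact hmem (Set.mem_biUnion (show t ∈ T' from ⟨ht, htz⟩) (subset_closure rfl))
      have h2 := sub_mem ((IsLocalRing.mem_maximalIdeal _).2 hnu) ((IsLocalRing.mem_maximalIdeal _).2 hnd)
      rw [add_sub_cancel_right] at h2
      exact h2 isUnit_one

/-- Finitely many points of codimension at most one of a separated Noetherian scheme lie in an affine open. -/
theorem exists_affine_finite (T : Set X) (hT : T.Finite)
    (hd : ∀ z ∈ T, ringKrullDim (X.presheaf.stalk z) ≤ 1) :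
    ∃ U : X.Opens, IsAffineOpen U ∧ T ⊆ U := by
  obtain ⟨U₀, G, hU₀, hG, hGU, hmin⟩ := PoleOne18.exists_affine_generic (X := X)
  suffices H : ∃ U : X.Opens, IsAffineOpen U ∧ T ∪ G ⊆ U by
    obtain ⟨U, hU, hle⟩ := H
    exact ⟨U, hU, fun t ht => hle (Or.inl ht)⟩
  induction T, hT using Set.Finite.induction_on with
  | empty => exact ⟨U₀, hU₀, by simpa using hGU⟩
  | @insert z T _ hTfin ih =>
    obtain ⟨U, hU, hle⟩ := ih fun y hy => hd y (Set.mem_insert_of_mem z hy)
    by_cases hz : z ∈ U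
    · exact ⟨U, hU, by rw [Set.insert_union]; exact Set.insert_subset hz hle⟩
    have hgen : ∀ η, η ⤳ z → η ≠ z → η ∈ U := fun η hη hne =>
      hle (Or.inr (hmin η fun b hb => Pic18.eq_of_specializes (hd z (Set.mem_insert z T)) hη hne hb))
    obtain ⟨U', hU', hzU', hle'⟩ := exists_affine_insert hU (T ∪ G) (hTfin.union hG) hle hz
      (hd z (Set.mem_insert z T)) hgen
    exact ⟨U', hU', by rw [Set.insert_union]; exact Set.insert_subset hzU' hle'⟩

end Groth.Agent.CodimAff19
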